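import Groth.Agent.Sga7.H763.ToD
import Groth.Agent.Sga7.H520.Puiseux

/-!
# Puiseux' theorem as a cartesian square

`V` strictly henselian DVR of residue characteristic zero containing a field `k`, uniformizer `π`,
`Ω` a separable closure of `Frac V`: `Spec Ω = Spec V ×_{Spec k[ℕ]} Spec k[ℚ]`.
-/

set_option autoImplicit false
universe u

open CategoryTheory CategoryTheory.Limits AlgebraicGeometry TensorProduct

namespace Groth.Agent.Sga7.H217.PuiseuxSq

open H763.Dia H763.ToD

/-- `X ↦ π` in terms of `k[ℕ]`. -/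
theorem mk_toFinsuppIso (k : Type u) [Field k] {V : Type u} [CommRing V] [Algebra k V] (π : V) :
    (mk k (algebraMap k V) (pw π)).comp (Polynomial.toFinsuppIso k : Polynomial k →+* AddMonoidAlgebra k ℕ) =
      (Polynomial.aeval π : Polynomial k →ₐ[k] V).toRingHom := by
  apply Polynomial.ringHom_ext
  · intro a
    have h1 : (Polynomial.toFinsuppIso k : Polynomial k →+* AddMonoidAlgebra k ℕ) (Polynomial.C a) =
        AddMonoidAlgebra.single 0 a := Polynomial.toFinsupp_C a
    rw [RingHom.comp_apply, h1, mk_single, ofAdd_zero, map_one, mul_one]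
    exact (Polynomial.aeval_C π a).symm
  · have h1 : (Polynomial.toFinsuppIso k : Polynomial k →+* AddMonoidAlgebra k ℕ) Polynomial.X =
        AddMonoidAlgebra.single 1 1 := Polynomial.toFinsupp_X
    rw [RingHom.comp_apply, h1, mk_single, map_one, one_mul, pw_ofAdd, pow_one]
    exact (Polynomial.aeval_X π).symm

/-- `X ↦ [1]` in terms of `k[ℕ]`. -/
theorem rm_toFinsuppIso (k : Type u) [Field k] :
    (rm k (Nat.castAddMonoidHom ℚ)).comp
        (Polynomial.toFinsuppIso k : Polynomial k →+* AddMonoidAlgebra k ℕ) =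
      (Polynomial.aeval (AddMonoidAlgebra.single 1 1) :
        Polynomial k →ₐ[k] AddMonoidAlgebra k ℚ).toRingHom := by
  apply Polynomial.ringHom_ext
  · intro a
    have h1 : (Polynomial.toFinsuppIso k : Polynomial k →+* AddMonoidAlgebra k ℕ) (Polynomial.C a) =
        AddMonoidAlgebra.single 0 a := Polynomial.toFinsupp_C a
    rw [RingHom.comp_apply, h1, rm_single, map_zero]
    exact (Polynomial.aeval_C _ a).symm
  · have h1 : (Polynomial.toFinsuppIso k : Polynomial k →+* AddMonoidAlgebra k ℕ) Polynomial.X =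
        AddMonoidAlgebra.single 1 1 := Polynomial.toFinsupp_X
    rw [RingHom.comp_apply, h1, rm_single]
    refine Eq.trans ?_ (Polynomial.aeval_X _).symm
    simp

/-- Puiseux' theorem as a pushout square. -/
theorem isPushout_puiseux (V k : Type u) [CommRing V] [IsDomain V] [IsDiscreteValuationRing V]
    [HenselianLocalRing V] [IsSepClosed (IsLocalRing.ResidueField V)]
    [CharZero (IsLocalRing.ResidueField V)] [Field k] [Algebra k V] (π : V) (hπ : Irreducible π)
    (K Ω : Type u) [Field K] [Algebra V K] [IsFractionRing V K] [Field Ω] [Algebra K Ω]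
    [IsSepClosure K Ω] [Algebra V Ω] [IsScalarTower V K Ω] :
    ∃ b : CommRingCat.of (AddMonoidAlgebra k ℚ) ⟶ CommRingCat.of Ω,
      IsPushout (CommRingCat.ofHom (mk k (algebraMap k V) (pw π)))
        (CommRingCat.ofHom (rm k (Nat.castAddMonoidHom ℚ)))
        (CommRingCat.ofHom (algebraMap V Ω)) b := by
  letI : Algebra (Polynomial k) V := (Polynomial.aeval π).toAlgebra
  letI : Algebra (Polynomial k) (AddMonoidAlgebra k ℚ) :=
    (Polynomial.aeval (AddMonoidAlgebra.single 1 1)).toAlgebra
  obtain ⟨e⟩ := H520.Puiseux.puiseux V k π hπ K Ω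
  have h := CommRingCat.isPushout_tensorProduct (Polynomial k) V (AddMonoidAlgebra k ℚ)
  refine ⟨CommRingCat.ofHom Algebra.TensorProduct.includeRight.toRingHom ≫
    (e.toRingEquiv.toCommRingCatIso).hom, ?_⟩
  refine h.of_iso (Polynomial.toFinsuppIso k).toCommRingCatIso (Iso.refl _) (Iso.refl _)
    e.toRingEquiv.toCommRingCatIso ?_ ?_ ?_ ?_
  · rw [Iso.refl_hom, Category.comp_id]
    apply CommRingCat.hom_ext
    exact (mk_toFinsuppIso k π).symm
  · rw [Iso.refl_hom, Category.comp_id]
    apply CommRingCat.hom_ext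
    exact (rm_toFinsuppIso k).symm
  · rw [Iso.refl_hom, Category.id_comp]
    apply CommRingCat.hom_ext
    refine RingHom.ext fun v => ?_
    exact e.commutes v
  · rw [Iso.refl_hom, Category.id_comp]

/-- Puiseux' theorem as a cartesian square. -/
theorem isPullback_puiseux (V k : Type u) [CommRing V] [IsDomain V] [IsDiscreteValuationRing V]
    [HenselianLocalRing V] [IsSepClosed (IsLocalRing.ResidueField V)]
    [CharZero (IsLocalRing.ResidueField V)] [Field k] [Algebra k V] (π : V) (hπ : Irreducible π)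
    (K Ω : Type u) [Field K] [Algebra V K] [IsFractionRing V K] [Field Ω] [Algebra K Ω]
    [IsSepClosure K Ω] [Algebra V Ω] [IsScalarTower V K Ω] :
    ∃ b : Spec (CommRingCat.of Ω) ⟶ D k ℚ,
      IsPullback (Spec.map (CommRingCat.ofHom (algebraMap V Ω))) b (toD k (pw π))
        (Dm k (Nat.castAddMonoidHom ℚ)) := by
  obtain ⟨b, hb⟩ := isPushout_puiseux V k π hπ K Ω
  exact ⟨Spec.map b, isPullback_SpecMap_of_isPushout _ _ _ _ hb⟩

end Groth.Agent.Sga7.H217.PuiseuxSq
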